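import Mathlib

/-!
# Frobenius' theorem on the number of solutions of `x ^ n = 1`

* `orderCount G m`: the number of elements of order `m`; it is divisible by `m.totient`;
* `solCount_eq_sum`: the solutions of `x ^ n = 1` are counted by the divisors of `n`;
* `dvd_solCount`: for `n ∣ |G|` the number of solutions is divisible by `n`.
-/

set_option autoImplicit false
set_option linter.style.haveILetI false

namespace Cfsg.Lib.Counting

universe u

/-- The number of elements of order `m`. -/
noncomputable def orderCount (G : Type u) [Group G] (m : ℕ) : ℕ := Nat.card {g : G // orderOf g = m}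

/-- The number of solutions of `x ^ n = 1`. -/
noncomputable def powCount (G : Type u) [Group G] (n : ℕ) : ℕ := Nat.card {g : G // g ^ n = 1}

variable {G : Type u} [Group G] [Finite G]

theorem orderCount_one : orderCount G 1 = 1 := by
  rw [orderCount, Nat.card_eq_one_iff_unique]
  exact ⟨⟨fun a b => Subtype.ext ((orderOf_eq_one_iff.1 a.2).trans (orderOf_eq_one_iff.1 b.2).symm)⟩,
    ⟨⟨1, orderOf_one⟩⟩⟩

theorem orderCount_ne_zero_iff {m : ℕ} : orderCount G m ≠ 0 ↔ ∃ g : G, orderOf g = m := by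
  rw [orderCount, Ne, Nat.card_eq_zero, not_or]
  exact ⟨fun h => ⟨_, (not_isEmpty_iff.1 h.1).some.2⟩,
    fun ⟨g, hg⟩ => ⟨not_isEmpty_iff.2 ⟨⟨g, hg⟩⟩, fun hi => hi.not_finite inferInstance⟩⟩

theorem orderCount_ne_zero_of_dvd {m d : ℕ} (h : orderCount G m ≠ 0) (hd : d ∣ m) (hd0 : d ≠ 0) :
    orderCount G d ≠ 0 := by
  obtain ⟨g, hg⟩ := orderCount_ne_zero_iff.1 h
  obtain ⟨c, rfl⟩ := hd
  refine orderCount_ne_zero_iff.2 ⟨g ^ c, ?_⟩
  have hc : c ≠ 0 := fun e => (orderOf_pos g).ne' (by rw [hg, e, mul_zero])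
  rw [orderOf_pow' g hc, hg, Nat.gcd_eq_right (dvd_mul_left c d), Nat.mul_div_cancel _ (Nat.pos_of_ne_zero hc)]

theorem totient_dvd_orderCount (m : ℕ) : m.totient ∣ orderCount G m := by
  classical
  haveI := Fintype.ofFinite G
  rw [orderCount, Nat.card_eq_fintype_card, Fintype.card_subtype,
    Finset.card_eq_sum_card_fiberwise (t := (Finset.univ.filter fun g : G => orderOf g = m).image
      fun g => Subgroup.zpowers g) (f := fun g : G => Subgroup.zpowers g)
      (fun g hg => Finset.mem_image_of_mem _ hg)]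
  refine Finset.dvd_sum fun H hH => ?_
  obtain ⟨g, hg, rfl⟩ := Finset.mem_image.1 hH
  have hgm : orderOf g = m := (Finset.mem_filter.1 hg).2
  haveI := Fintype.ofFinite (Subgroup.zpowers g)
  have hcard : Fintype.card (Subgroup.zpowers g) = m := by rw [← Nat.card_eq_fintype_card, Nat.card_zpowers, hgm]
  rw [← IsCyclic.card_orderOf_eq_totient (α := Subgroup.zpowers g) (d := m) (hcard ▸ dvd_rfl)]
  refine dvd_of_eq (Finset.card_bij (fun x _ => (x : G)) (fun x hx => ?_) (fun _ _ _ _ h => Subtype.ext h)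
    fun y hy => ?_)
  · have hxm : orderOf (x : G) = m := by rw [Subgroup.orderOf_coe]; exact (Finset.mem_filter.1 hx).2
    refine Finset.mem_filter.2 ⟨Finset.mem_filter.2 ⟨Finset.mem_univ _, hxm⟩, ?_⟩
    exact Subgroup.eq_of_le_of_card_ge (Subgroup.zpowers_le.2 x.2)
      (by rw [Nat.card_zpowers, Nat.card_zpowers, hxm, hgm])
  · obtain ⟨hy1, hy2⟩ := Finset.mem_filter.1 hy
    refine ⟨⟨y, hy2 ▸ Subgroup.mem_zpowers y⟩, Finset.mem_filter.2 ⟨Finset.mem_univ _, ?_⟩, rfl⟩
    rw [Subgroup.orderOf_mk]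
    exact (Finset.mem_filter.1 hy1).2

theorem even_orderCount {m : ℕ} (hm : 2 < m) : 2 ∣ orderCount G m :=
  (even_iff_two_dvd.1 (Nat.totient_even hm)).trans (totient_dvd_orderCount m)

theorem powCount_eq_sum {n : ℕ} (hn : n ≠ 0) : powCount G n = ∑ d ∈ n.divisors, orderCount G d := by
  classical
  haveI := Fintype.ofFinite G
  rw [powCount, Nat.card_eq_fintype_card, Fintype.card_subtype,
    Finset.card_eq_sum_card_fiberwise (t := n.divisors) (f := fun g : G => orderOf g)
      (fun g hg => Nat.mem_divisors.2 ⟨orderOf_dvd_of_pow_eq_one (Finset.mem_filter.1 hg).2, hn⟩)]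
  refine Finset.sum_congr rfl fun d hd => ?_
  rw [orderCount, Nat.card_eq_fintype_card, Fintype.card_subtype, Finset.filter_filter]
  congr 1
  ext g
  simp only [Finset.mem_filter, Finset.mem_univ, true_and]
  exact ⟨fun h => h.2, fun h => ⟨orderOf_dvd_iff_pow_eq_one.1 (h ▸ (Nat.mem_divisors.1 hd).1), h⟩⟩

theorem sum_divisors_mul_prime {p n : ℕ} (hp : p.Prime) (hpn : ¬ p ∣ n) (f : ℕ → ℕ) :
    ∑ d ∈ (n * p).divisors, f d = (∑ d ∈ n.divisors, f d) + ∑ d ∈ n.divisors, f (d * p) := by
  classical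
  have hn : n ≠ 0 := fun h => hpn (h ▸ dvd_zero p)
  have hset : (n * p).divisors = n.divisors ∪ n.divisors.image (· * p) := by
    ext d
    simp only [Nat.mem_divisors, Finset.mem_union, Finset.mem_image]
    constructor
    · rintro ⟨hd, -⟩
      by_cases hpd : p ∣ d
      · obtain ⟨c, rfl⟩ := hpd
        rw [mul_comm n p] at hd
        exact Or.inr ⟨c, ⟨Nat.dvd_of_mul_dvd_mul_left hp.pos hd, hn⟩, mul_comm _ _⟩
      · exact Or.inl ⟨((hp.coprime_iff_not_dvd.2 hpd).symm).dvd_of_dvd_mul_right hd, hn⟩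
    · rintro (⟨hd, -⟩ | ⟨c, ⟨hc, -⟩, rfl⟩)
      · exact ⟨hd.mul_right p, mul_ne_zero hn hp.ne_zero⟩
      · exact ⟨mul_dvd_mul_right hc p, mul_ne_zero hn hp.ne_zero⟩
  rw [hset, Finset.sum_union, Finset.sum_image fun a _ b _ h => Nat.eq_of_mul_eq_mul_right hp.pos h]
  rw [Finset.disjoint_left]
  intro d hd hd'
  obtain ⟨c, -, rfl⟩ := Finset.mem_image.1 hd'
  exact hpn ((dvd_mul_left p c).trans (Nat.mem_divisors.1 hd).1)

/-- The number of elements killed by a power of `p` commuting with `v`. -/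
noncomputable def centPow (p e : ℕ) (v : G) : ℕ :=
  Nat.card {u : G // Commute u v ∧ u ^ p ^ e = 1}

omit [Finite G] in
theorem centPow_conj (p e : ℕ) (v c : G) : centPow p e (c * v * c⁻¹) = centPow p e v := by
  refine Nat.card_congr (((MulAut.conj c).toEquiv.subtypeEquiv fun u => ?_).symm)
  show _ ↔ Commute (c * u * c⁻¹) (c * v * c⁻¹) ∧ (c * u * c⁻¹) ^ p ^ e = 1
  rw [conj_pow, conj_eq_one_iff]
  refine and_congr_left' ⟨fun h => h.map (MulAut.conj c).toMonoidHom, fun h => ?_⟩
  have h' : MulAut.conj c u * MulAut.conj c v = MulAut.conj c v * MulAut.conj c u := h.eq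
  rw [← map_mul, ← map_mul] at h'
  exact (MulAut.conj c).injective h'

theorem card_sol_eq_sum [Fintype G] [DecidableEq G] {p e m : ℕ} (hpm : (p ^ e).Coprime m) :
    powCount G (p ^ e * m) = ∑ v ∈ Finset.univ.filter (fun v : G => v ^ m = 1), centPow p e v := by
  classical
  obtain ⟨k, hk1, hk2⟩ := Nat.chineseRemainder hpm 1 0
  obtain ⟨l, hl1, hl2⟩ := Nat.chineseRemainder hpm 0 1
  have hdec : ∀ x : G, x ^ (p ^ e * m) = 1 → x ^ k * x ^ l = x := by
    intro x hx
    rw [← pow_add]
    conv_rhs => rw [← pow_one x]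
    refine pow_eq_pow_iff_modEq.2 (Nat.ModEq.of_dvd (orderOf_dvd_of_pow_eq_one hx) ?_)
    exact (Nat.modEq_and_modEq_iff_modEq_mul hpm).1 ⟨hk1.add hl1, hk2.add hl2⟩
  have hsigma : (∑ v ∈ Finset.univ.filter (fun v : G => v ^ m = 1), centPow p e v) =
      Nat.card (Σ v : {v : G // v ^ m = 1}, {u : G // Commute u v.1 ∧ u ^ p ^ e = 1}) := by
    rw [Nat.card_sigma]
    exact Finset.sum_subtype _ (by simp) _
  rw [hsigma, powCount]
  refine Nat.card_congr
    { toFun := fun x => ⟨⟨x.1 ^ l, ?_⟩, ⟨x.1 ^ k, (Commute.refl x.1).pow_pow k l, ?_⟩⟩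
      invFun := fun a => ⟨a.2.1 * a.1.1, ?_⟩
      left_inv := fun x => Subtype.ext (hdec x.1 x.2)
      right_inv := ?_ }
  · obtain ⟨c, hc⟩ := Nat.modEq_zero_iff_dvd.1 hl1
    rw [← pow_mul, hc, mul_assoc, mul_comm c, ← mul_assoc, pow_mul, x.2, one_pow]
  · obtain ⟨c, hc⟩ := Nat.modEq_zero_iff_dvd.1 hk2
    rw [← pow_mul, hc, mul_assoc, mul_comm c, ← mul_assoc, mul_comm m, pow_mul, x.2, one_pow]
  · obtain ⟨⟨v, hv⟩, ⟨u, hc, hu⟩⟩ := a
    show (u * v) ^ (p ^ e * m) = 1
    rw [hc.mul_pow, pow_mul, hu, one_pow, one_mul, mul_comm, pow_mul, hv, one_pow]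
  · rintro ⟨⟨v, hv⟩, ⟨u, hc, hu⟩⟩
    have e1 : (u * v) ^ l = v := by
      rw [hc.mul_pow, show u ^ l = 1 from orderOf_dvd_iff_pow_eq_one.1
        ((orderOf_dvd_of_pow_eq_one hu).trans (Nat.modEq_zero_iff_dvd.1 hl1)), one_mul]
      conv_rhs => rw [← pow_one v]
      exact pow_eq_pow_iff_modEq.2 (hl2.of_dvd (orderOf_dvd_of_pow_eq_one hv))
    have e2 : (u * v) ^ k = u := by
      rw [hc.mul_pow, show v ^ k = 1 from orderOf_dvd_iff_pow_eq_one.1
        ((orderOf_dvd_of_pow_eq_one hv).trans (Nat.modEq_zero_iff_dvd.1 hk2)), mul_one]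
      conv_rhs => rw [← pow_one u]
      exact pow_eq_pow_iff_modEq.2 (hk1.of_dvd (orderOf_dvd_of_pow_eq_one hu))
    exact Sigma.subtype_ext (Subtype.ext e1) e2

theorem centPow_eq_powCount (p e : ℕ) (v : G) :
    centPow p e v = powCount (Subgroup.centralizer ({v} : Set G)) (p ^ e) := by
  refine Nat.card_congr
    { toFun := fun u => ⟨⟨u.1, Subgroup.mem_centralizer_singleton_iff.2 u.2.1.eq⟩, Subtype.ext u.2.2⟩
      invFun := fun u => ⟨u.1.1, Subgroup.mem_centralizer_singleton_iff.1 u.1.2, congrArg Subtype.val u.2⟩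
      left_inv := fun _ => rfl
      right_inv := fun _ => rfl }

theorem powCount_saturate {p : ℕ} [hp : Fact p.Prime] {e : ℕ} (he : (Nat.card G).factorization p ≤ e) :
    powCount G (p ^ e) = powCount G (p ^ (Nat.card G).factorization p) := by
  refine Nat.card_congr (Equiv.subtypeEquivRight fun u => ?_)
  constructor <;> intro hu
  · obtain ⟨j, -, hj⟩ := (Nat.dvd_prime_pow hp.out).1 (orderOf_dvd_of_pow_eq_one hu)
    refine orderOf_dvd_iff_pow_eq_one.1 (hj ▸ pow_dvd_pow p ?_)
    exact (hp.out.pow_dvd_iff_le_factorization Nat.card_pos.ne').1 (hj ▸ orderOf_dvd_natCard u)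
  · exact orderOf_dvd_iff_pow_eq_one.1 ((orderOf_dvd_of_pow_eq_one hu).trans (pow_dvd_pow p he))

theorem dvd_sum_invariant [Fintype G] {d : ℕ} (S : Finset G)
    (hS : ∀ v ∈ S, ∀ c : G, c * v * c⁻¹ ∈ S) (f : G → ℕ) (hf : ∀ v c : G, f (c * v * c⁻¹) = f v)
    (h : ∀ v ∈ S, d ∣ (Subgroup.centralizer ({v} : Set G)).index * f v) : d ∣ ∑ v ∈ S, f v := by
  classical
  rw [← Finset.sum_fiberwise_of_maps_to (t := S.image ConjClasses.mk) fun v hv => Finset.mem_image_of_mem _ hv]
  refine Finset.dvd_sum fun C hC => ?_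
  obtain ⟨v, hv, rfl⟩ := Finset.mem_image.1 hC
  have hconst : ∀ x ∈ S.filter (fun x => ConjClasses.mk x = ConjClasses.mk v), f x = f v := by
    intro x hx
    obtain ⟨c, hc⟩ := isConj_iff.1 (ConjClasses.mk_eq_mk_iff_isConj.1 (Finset.mem_filter.1 hx).2)
    rw [← hc, hf]
  rw [Finset.sum_congr rfl hconst, Finset.sum_const, smul_eq_mul]
  have hcard : (S.filter fun x => ConjClasses.mk x = ConjClasses.mk v).card =
      (Subgroup.centralizer ({v} : Set G)).index := by
    have h1 : (S.filter fun x => ConjClasses.mk x = ConjClasses.mk v).card =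
        Nat.card (MulAction.orbit (ConjAct G) v) := by
      rw [← Nat.card_eq_finsetCard]
      refine Nat.card_congr (Equiv.subtypeEquivRight fun x => ?_)
      rw [Finset.mem_filter, ConjClasses.mk_eq_mk_iff_isConj, ConjAct.mem_orbit_conjAct]
      refine ⟨fun h => h.2, fun h => ⟨?_, h⟩⟩
      obtain ⟨c, hc⟩ := isConj_iff.1 h.symm
      exact hc ▸ hS v hv c
    rw [h1, Nat.card_coe_set_eq, ← MulAction.index_stabilizer,
      Subgroup.centralizer_eq_comap_stabilizer]
    exact (Subgroup.index_comap_of_surjective _ (fun x => ⟨ConjAct.ofConjAct x, rfl⟩)).symm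
  rw [hcard]; exact h v hv

/-- Frobenius: the number of `p`-elements is divisible by the order of a Sylow subgroup. -/
theorem sylow_dvd_powCount (p : ℕ) [hp : Fact p.Prime] : ∀ (n : ℕ) {H : Type u} [Group H] [Finite H],
    Nat.card H = n → p ^ (Nat.card H).factorization p ∣ powCount H (p ^ (Nat.card H).factorization p) := by
  intro n
  induction n using Nat.strong_induction_on with
  | _ n ih =>
    intro H _ _ hn
    classical
    haveI := Fintype.ofFinite H
    set a := (Nat.card H).factorization p with ha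
    set m := Nat.card H / p ^ a with hm
    have hpm : ¬ p ∣ m := Nat.not_dvd_ordCompl hp.out Nat.card_pos.ne'
    have hHm : p ^ a * m = Nat.card H := Nat.mul_div_cancel' (Nat.ordProj_dvd _ p)
    have hcop : (p ^ a).Coprime m := (hp.out.coprime_iff_not_dvd.2 hpm).pow_left a
    have hall : powCount H (p ^ a * m) = Nat.card H := by
      rw [hHm, powCount]; exact Nat.card_congr (Equiv.subtypeUnivEquiv fun x => pow_card_eq_one')
    rw [card_sol_eq_sum hcop] at hall
    set S := Finset.univ.filter fun v : H => v ^ m = 1 with hS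
    rw [← Finset.sum_filter_add_sum_filter_not S (fun v => v ∈ Subgroup.center H)] at hall
    have hcen : ∀ v ∈ S.filter (fun v => v ∈ Subgroup.center H), centPow p a v = powCount H (p ^ a) := by
      intro v hv
      refine Nat.card_congr (Equiv.subtypeEquivRight fun u => ⟨fun h => h.2, fun h => ⟨?_, h⟩⟩)
      exact (Subgroup.mem_center_iff.1 (Finset.mem_filter.1 hv).2 u)
    rw [Finset.sum_congr rfl hcen, Finset.sum_const, smul_eq_mul] at hall
    have hrest : p ^ a ∣ ∑ v ∈ S.filter (fun v => ¬ v ∈ Subgroup.center H), centPow p a v := by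
      refine dvd_sum_invariant _ (fun v hv c => ?_) _ (fun v c => centPow_conj p a v c) fun v hv => ?_
      · simp only [hS, Finset.mem_filter, Finset.mem_univ, true_and] at hv ⊢
        refine ⟨by rw [conj_pow, hv.1, mul_one, mul_inv_cancel], fun h => hv.2 ?_⟩
        have h2 := (inferInstance : (Subgroup.center H).Normal).conj_mem _ h c⁻¹
        simpa [mul_assoc] using h2
      · set C := Subgroup.centralizer ({v} : Set H) with hC
        have hlt : Nat.card C < n := by
          rw [← hn]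
          refine lt_of_le_of_ne (Subgroup.card_le_card_group C) fun he => (Finset.mem_filter.1 hv).2 ?_
          exact Set.singleton_subset_iff.1
            (Subgroup.centralizer_eq_top_iff_subset.1 (Subgroup.eq_top_of_card_eq C he))
        have h1 := ih _ hlt (H := C) rfl
        have hle : (Nat.card C).factorization p ≤ a := by
          rw [ha]
          exact (Nat.factorization_le_iff_dvd Nat.card_pos.ne' Nat.card_pos.ne').2
            (Subgroup.card_subgroup_dvd_card C) p
        rw [centPow_eq_powCount, ← hC, powCount_saturate hle]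
        have h2 : p ^ a ∣ C.index * p ^ (Nat.card C).factorization p := by
          have h3 : a = C.index.factorization p + (Nat.card C).factorization p := by
            rw [ha, ← C.index_mul_card, Nat.factorization_mul C.index_ne_zero_of_finite Nat.card_pos.ne']
            rfl
          rw [h3, pow_add]
          exact mul_dvd_mul_right (Nat.ordProj_dvd _ p) _
        exact h2.trans (mul_dvd_mul_left _ h1)
    have hsum : p ^ a ∣ (S.filter fun v => v ∈ Subgroup.center H).card * powCount H (p ^ a) :=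
      (Nat.dvd_add_left hrest).1 (hall ▸ hHm ▸ dvd_mul_right _ _)
    refine Nat.Coprime.dvd_of_dvd_mul_left ?_ hsum
    refine Nat.Coprime.pow_left a (hp.out.coprime_iff_not_dvd.2 fun hd => ?_)
    -- the central solutions form a subgroup of order prime to `p`
    let Z : Subgroup H :=
      { carrier := {v | v ^ m = 1 ∧ v ∈ Subgroup.center H}
        one_mem' := ⟨one_pow m, Subgroup.one_mem _⟩
        mul_mem' := fun {x y} hx hy => ⟨by
          rw [(show Commute x y from (Subgroup.mem_center_iff.1 hy.2 x)).mul_pow, hx.1, hy.1, one_mul],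
          Subgroup.mul_mem _ hx.2 hy.2⟩
        inv_mem' := fun {x} hx => ⟨by rw [inv_pow, hx.1, inv_one], Subgroup.inv_mem _ hx.2⟩ }
    have hZ : Nat.card Z = (S.filter fun v => v ∈ Subgroup.center H).card := by
      rw [← Nat.card_eq_finsetCard]
      exact Nat.card_congr (Equiv.subtypeEquivRight fun v => by simp [Z, hS])
    obtain ⟨z, hz⟩ := exists_prime_orderOf_dvd_card' (G := Z) p (hZ ▸ hd)
    have := orderOf_dvd_of_pow_eq_one (show z ^ m = 1 from Subtype.ext z.2.1)
    exact hpm (hz ▸ this)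

theorem prime_pow_dvd_powCount_full {p : ℕ} [hp : Fact p.Prime] {m : ℕ} (hpm : ¬ p ∣ m) :
    p ^ (Nat.card G).factorization p ∣ powCount G (p ^ (Nat.card G).factorization p * m) := by
  classical
  haveI := Fintype.ofFinite G
  set a := (Nat.card G).factorization p with ha
  rw [card_sol_eq_sum ((hp.out.coprime_iff_not_dvd.2 hpm).pow_left a)]
  refine dvd_sum_invariant _ (fun v hv c => ?_) _ (fun v c => centPow_conj p a v c) fun v _ => ?_
  · simp only [Finset.mem_filter, Finset.mem_univ, true_and] at hv ⊢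
    rw [conj_pow, hv, mul_one, mul_inv_cancel]
  · set C := Subgroup.centralizer ({v} : Set G) with hC
    have hle : (Nat.card C).factorization p ≤ a := by
      rw [ha]
      exact (Nat.factorization_le_iff_dvd Nat.card_pos.ne' Nat.card_pos.ne').2
        (Subgroup.card_subgroup_dvd_card C) p
    rw [centPow_eq_powCount, ← hC, powCount_saturate hle]
    have h3 : a = C.index.factorization p + (Nat.card C).factorization p := by
      rw [ha, ← C.index_mul_card, Nat.factorization_mul C.index_ne_zero_of_finite Nat.card_pos.ne']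
      rfl
    rw [h3, pow_add]
    exact (mul_dvd_mul_right (Nat.ordProj_dvd _ p) _).trans (mul_dvd_mul_left _ (sylow_dvd_powCount p _ rfl))

theorem prime_pow_dvd_powCount {p : ℕ} [hp : Fact p.Prime] {m : ℕ} (hpm : ¬ p ∣ m) :
    ∀ (k j : ℕ), j + k = (Nat.card G).factorization p → p ^ j ∣ powCount G (p ^ j * m)
  | 0, j, h => by rw [show j = (Nat.card G).factorization p by omega]; exact prime_pow_dvd_powCount_full hpm
  | k + 1, j, h => by
    classical
    have hm0 : m ≠ 0 := fun e => hpm (e ▸ dvd_zero p)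
    have hrec := prime_pow_dvd_powCount hpm k (j + 1) (by omega)
    rw [powCount_eq_sum (mul_ne_zero (pow_ne_zero _ hp.out.ne_zero) hm0)] at hrec ⊢
    have hsub : (p ^ j * m).divisors ⊆ (p ^ (j + 1) * m).divisors :=
      Nat.divisors_subset_of_dvd (mul_ne_zero (pow_ne_zero _ hp.out.ne_zero) hm0)
        (mul_dvd_mul_right (pow_dvd_pow p (by omega)) m)
    rw [← Finset.sum_sdiff hsub] at hrec
    refine (Nat.dvd_add_right (Finset.dvd_sum fun d hd => ?_)).1
      ((pow_dvd_pow p (Nat.le_succ j)).trans hrec)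
    obtain ⟨hd1, hd2⟩ := Finset.mem_sdiff.1 hd
    have hdvd := (Nat.mem_divisors.1 hd1).1
    have hpd : p ^ (j + 1) ∣ d := by
      obtain ⟨u, v, hu, hv, rfl⟩ := exists_dvd_and_dvd_of_dvd_mul hdvd
      obtain ⟨i, hi, rfl⟩ := (Nat.dvd_prime_pow hp.out).1 hu
      by_cases hij : i ≤ j
      · exact absurd (Nat.mem_divisors.2 ⟨mul_dvd_mul (pow_dvd_pow p hij) hv,
          mul_ne_zero (pow_ne_zero _ hp.out.ne_zero) hm0⟩) hd2
      · rw [show i = j + 1 by omega]; exact dvd_mul_right _ _
    refine (Dvd.dvd.trans ?_ (Nat.totient_dvd_of_dvd hpd)).trans (totient_dvd_orderCount d)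
    rw [Nat.totient_prime_pow_succ hp.out]
    exact dvd_mul_right _ _

/-- Frobenius' theorem. -/
theorem dvd_powCount {n : ℕ} (hn : n ∣ Nat.card G) : n ∣ powCount G n := by
  have hn0 : n ≠ 0 := fun e => Nat.card_pos.ne' (Nat.eq_zero_of_zero_dvd (e ▸ hn))
  rw [Nat.dvd_iff_prime_pow_dvd_dvd]
  intro p k hp hk
  haveI := Fact.mk hp
  have h1 : p ^ (n.factorization p) ∣ powCount G n := by
    have hle := (Nat.factorization_le_iff_dvd hn0 Nat.card_pos.ne').2 hn p
    have := prime_pow_dvd_powCount (G := G) (p := p) (m := n / p ^ n.factorization p)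
      (Nat.not_dvd_ordCompl hp hn0) ((Nat.card G).factorization p - n.factorization p)
      (n.factorization p) (by omega)
    rwa [Nat.mul_div_cancel' (Nat.ordProj_dvd n p)] at this
  exact (pow_dvd_pow p ((hp.pow_dvd_iff_le_factorization hn0).1 hk)).trans h1

theorem dvd_sum_orderCount {n : ℕ} (hn : n ∣ Nat.card G) : n ∣ ∑ d ∈ n.divisors, orderCount G d := by
  rw [← powCount_eq_sum fun e => Nat.card_pos.ne' (Nat.eq_zero_of_zero_dvd (e ▸ hn))]
  exact dvd_powCount hn

end Cfsg.Lib.Counting
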