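import Cfsg.Agent.Lib.Counting.FrobeniusSolutions

/-!
# Groups in which the numbers of elements of each order take few values

Congruences from Frobenius' theorem bound the number of odd prime divisors.
-/

set_option autoImplicit false
set_option linter.style.haveILetI false

namespace Cfsg.Lib.Counting

universe u

variable {G : Type u} [Group G] [Finite G]

/-- All nonzero counts at odd orders other than one are `a` or `b`. -/
def OddValues (G : Type u) [Group G] (a b : ℕ) : Prop :=
  ∀ m : ℕ, Odd m → 1 < m → orderCount G m = 0 ∨ orderCount G m = a ∨ orderCount G m = b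

omit [Finite G] in
theorem OddValues.symm {a b : ℕ} (h : OddValues G a b) : OddValues G b a := fun m hm h1 =>
  (h m hm h1).imp_right Or.symm

theorem orderCount_prime_ne_zero {p : ℕ} (hp : p.Prime) (hd : p ∣ Nat.card G) : orderCount G p ≠ 0 := by
  haveI := Fact.mk hp
  exact orderCount_ne_zero_iff.2 (exists_prime_orderOf_dvd_card' p hd)

theorem cast_sum_eq_zero {n : ℕ} (hn : n ∣ Nat.card G) {p : ℕ} (hp : p ∣ n) :
    ((∑ d ∈ n.divisors, orderCount G d : ℕ) : ZMod p) = 0 :=
  (ZMod.natCast_eq_zero_iff _ _).2 (hp.trans (dvd_sum_orderCount hn))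

theorem cast_prime {p : ℕ} (hp : p.Prime) (hd : p ∣ Nat.card G) : (orderCount G p : ZMod p) = -1 := by
  have h := cast_sum_eq_zero (G := G) hd (dvd_refl p)
  rw [hp.sum_divisors, orderCount_one] at h
  push_cast at h
  linear_combination h

theorem sum_two_primes {p q : ℕ} (hp : p.Prime) (hq : q.Prime) (hpq : p ≠ q) :
    ∑ d ∈ (p * q).divisors, orderCount G d = 1 + orderCount G p + orderCount G q + orderCount G (p * q) := by
  rw [sum_divisors_mul_prime hq (fun h => hpq ((Nat.prime_dvd_prime_iff_eq hq hp).1 h).symm),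
    hp.sum_divisors, hp.sum_divisors, orderCount_one, one_mul]
  ring

theorem two_ne_zero_zmod {p : ℕ} (hp : p.Prime) (h2 : p ≠ 2) : (2 : ZMod p) ≠ 0 := fun h => by
  have : ((2 : ℕ) : ZMod p) = 0 := by exact_mod_cast h
  exact h2 ((Nat.prime_dvd_prime_iff_eq hp Nat.prime_two).1 ((ZMod.natCast_eq_zero_iff _ _).1 this))

theorem odd_mul_primes {p q : ℕ} (hp : p.Prime) (hp2 : p ≠ 2) (hq : q.Prime) (hq2 : q ≠ 2) :
    Odd (p * q) ∧ 1 < p * q :=
  ⟨(hp.odd_of_ne_two hp2).mul (hq.odd_of_ne_two hq2), Nat.one_lt_mul_iff.2 ⟨hp.pos, hq.pos, Or.inl hp.one_lt⟩⟩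

theorem mul_dvd_of_primes {p q n : ℕ} (hp : p.Prime) (hq : q.Prime) (hpq : p ≠ q) (hpn : p ∣ n) (hqn : q ∣ n) :
    p * q ∣ n :=
  ((Nat.coprime_primes hp hq).2 hpq).mul_dvd_of_dvd_of_dvd hpn hqn

/-- Two odd primes with the same count. -/
theorem pair_same {a b : ℕ} (hv : OddValues G a b) {p q : ℕ} (hp : p.Prime) (hp2 : p ≠ 2) (hq : q.Prime)
    (hq2 : q ≠ 2) (hpq : p ≠ q) (hpd : p ∣ Nat.card G) (hqd : q ∣ Nat.card G)
    (hsp : orderCount G p = a) (hsq : orderCount G q = a) :
    orderCount G (p * q) = b ∧ (b : ZMod p) = 1 ∧ a ≠ b := by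
  haveI := Fact.mk hp
  have h2 := two_ne_zero_zmod hp hp2
  have hap : (a : ZMod p) = -1 := hsp ▸ cast_prime hp hpd
  have h := cast_sum_eq_zero (G := G) (mul_dvd_of_primes hp hq hpq hpd hqd) (dvd_mul_right p q)
  rw [sum_two_primes hp hq hpq, hsp, hsq] at h
  push_cast at h
  rw [hap] at h
  have h1 : (orderCount G (p * q) : ZMod p) = 1 := by linear_combination h
  obtain ⟨ho, hlt⟩ := odd_mul_primes hp hp2 hq hq2
  rcases hv _ ho hlt with e | e | e
  · exact absurd (e ▸ h1) (by rw [Nat.cast_zero]; exact zero_ne_one)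
  · exfalso
    rw [e, hap] at h1
    exact h2 (by linear_combination -h1)
  · refine ⟨e, e ▸ h1, fun hab => h2 ?_⟩
    rw [e, ← hab, hap] at h1
    linear_combination -h1

/-- Two odd primes with one count and a third with the other. -/
theorem not_two_and_one {a b : ℕ} (hv : OddValues G a b) {p q r : ℕ} (hp : p.Prime) (hp2 : p ≠ 2)
    (hq : q.Prime) (hq2 : q ≠ 2) (hr : r.Prime) (hr2 : r ≠ 2) (hpq : p ≠ q) (hpr : p ≠ r) (hqr : q ≠ r)
    (hpd : p ∣ Nat.card G) (hqd : q ∣ Nat.card G) (hrd : r ∣ Nat.card G)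
    (hsp : orderCount G p = a) (hsq : orderCount G q = a) (hsr : orderCount G r = b) : False := by
  haveI := Fact.mk hp
  haveI := Fact.mk hq
  haveI := Fact.mk hr
  have hp2' := two_ne_zero_zmod hp hp2
  have hr2' := two_ne_zero_zmod hr hr2
  obtain ⟨hspq, hbp, hab⟩ := pair_same hv hp hp2 hq hq2 hpq hpd hqd hsp hsq
  obtain ⟨-, hbq, -⟩ := pair_same hv hq hq2 hp hp2 hpq.symm hqd hpd hsq hsp
  have hbr : (b : ZMod r) = -1 := hsr ▸ cast_prime hr hrd
  have key : ∀ x : ℕ, x.Prime → x ≠ 2 → x ≠ r → x ∣ Nat.card G → orderCount G x = a → (b : ZMod x) = 1 →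
      orderCount G (x * r) = a ∧ (a : ZMod r) = 0 := by
    intro x hx hx2 hxr hxd hsx hbx
    haveI := Fact.mk hx
    have hax : (a : ZMod x) = -1 := hsx ▸ cast_prime hx hxd
    have hd := mul_dvd_of_primes hx hr hxr hxd hrd
    have h := cast_sum_eq_zero (G := G) hd (dvd_mul_right x r)
    have h' := cast_sum_eq_zero (G := G) hd (dvd_mul_left r x)
    rw [sum_two_primes hx hr hxr, hsx, hsr] at h h'
    push_cast at h h'
    rw [hax, hbx] at h
    obtain ⟨ho, hlt⟩ := odd_mul_primes hx hx2 hr hr2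
    rcases hv _ ho hlt with e | e | e
    · rw [e, Nat.cast_zero] at h
      exact absurd (by linear_combination h : (1 : ZMod x) = 0) one_ne_zero
    · refine ⟨e, ?_⟩
      rw [e, hbr] at h'
      have : (2 : ZMod r) * a = 0 := by linear_combination h'
      exact (mul_eq_zero.1 this).resolve_left hr2'
    · rw [e, hbx] at h
      exact absurd (by linear_combination h : (2 : ZMod x) = 0) (two_ne_zero_zmod hx hx2)
  obtain ⟨hspr, har⟩ := key p hp hp2 hpr hpd hsp hbp
  obtain ⟨hsqr, -⟩ := key q hq hq2 hqr hqd hsq hbq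
  have hr_pq : ¬ r ∣ p * q := fun h => by
    rcases (Nat.Prime.dvd_mul hr).1 h with h | h
    · exact hpr ((Nat.prime_dvd_prime_iff_eq hr hp).1 h).symm
    · exact hqr ((Nat.prime_dvd_prime_iff_eq hr hq).1 h).symm
  have hd : p * q * r ∣ Nat.card G :=
    ((hr.coprime_iff_not_dvd.2 hr_pq).symm).mul_dvd_of_dvd_of_dvd (mul_dvd_of_primes hp hq hpq hpd hqd) hrd
  have hsum : ∑ d ∈ (p * q * r).divisors, orderCount G d =
      (1 + a + a + b) + (b + a + a + orderCount G (p * q * r)) := by
    rw [sum_divisors_mul_prime hr hr_pq, sum_two_primes hp hq hpq, hsp, hsq, hspq]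
    congr 1
    rw [sum_divisors_mul_prime hq (fun h => hpq ((Nat.prime_dvd_prime_iff_eq hq hp).1 h).symm),
      hp.sum_divisors, hp.sum_divisors, one_mul, one_mul, hsr, hspr, hsqr]
    ring
  have hap : (a : ZMod p) = -1 := hsp ▸ cast_prime hp hpd
  have h := cast_sum_eq_zero (G := G) hd ((dvd_mul_right p q).mul_right r)
  have h' := cast_sum_eq_zero (G := G) hd (dvd_mul_left r (p * q))
  rw [hsum] at h h'
  push_cast at h h'
  rw [hap, hbp] at h
  rw [har, hbr] at h'
  obtain ⟨ho, hlt⟩ := odd_mul_primes hp hp2 hq hq2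
  have ho' : Odd (p * q * r) := ho.mul (hr.odd_of_ne_two hr2)
  have hlt' : 1 < p * q * r := lt_of_lt_of_le hlt (Nat.le_mul_of_pos_right _ hr.pos)
  rcases hv _ ho' hlt' with e | e | e
  · rw [e, Nat.cast_zero] at h
    exact absurd (by linear_combination -h : (1 : ZMod p) = 0) one_ne_zero
  · rw [e, hap] at h
    exact hp2' (by linear_combination -h)
  · rw [e, hbr] at h'
    exact hr2' (by linear_combination -h')

/-- A Sylow order divides `1 + a` when all higher powers are absent. -/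
theorem sylow_dvd_succ {p : ℕ} (hp : p.Prime) (hd : p ∣ Nat.card G) (h2 : orderCount G (p ^ 2) = 0) :
    p ^ (Nat.card G).factorization p ∣ 1 + orderCount G p := by
  have h := dvd_sum_orderCount (G := G) (Nat.ordProj_dvd (Nat.card G) p)
  have hpos := hp.factorization_pos_of_dvd Nat.card_pos.ne' hd
  rw [Nat.sum_divisors_prime_pow hp] at h
  obtain ⟨j, hj⟩ : ∃ j, (Nat.card G).factorization p + 1 = j + 2 := ⟨(Nat.card G).factorization p - 1, by omega⟩
  rw [hj, Finset.sum_range_succ', Finset.sum_range_succ', pow_zero, orderCount_one, zero_add, pow_one,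
    Finset.sum_eq_zero (fun k _ => ?_), zero_add, add_comm] at h
  · exact h
  · by_contra hne
    exact orderCount_ne_zero_of_dvd hne (pow_dvd_pow p (by omega)) (pow_ne_zero _ hp.ne_zero) h2

/-- The odd prime divisors do not all share a count. -/
theorem not_all_same {a b : ℕ} (hv : OddValues G a b) (hodd : Odd (Nat.card G)) {p q : ℕ} (hp : p.Prime)
    (hq : q.Prime) (hpq : p ≠ q) (hpd : p ∣ Nat.card G) (hqd : q ∣ Nat.card G)
    (hall : ∀ r : ℕ, r.Prime → r ∣ Nat.card G → orderCount G r = a) : False := by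
  have hne2 : ∀ r : ℕ, r ∣ Nat.card G → r ≠ 2 := fun r hr e =>
    (Nat.not_even_iff_odd.2 hodd) (even_iff_two_dvd.2 (e ▸ hr))
  have hM : Nat.card G ∣ 1 + a := by
    rw [Nat.dvd_iff_prime_pow_dvd_dvd]
    intro r k hr hk
    rcases Nat.eq_zero_or_pos k with rfl | hk0
    · simp
    have hrd : r ∣ Nat.card G := (dvd_pow_self r hk0.ne').trans hk
    haveI := Fact.mk hr
    obtain ⟨x, hx, hxr, hxd⟩ : ∃ x : ℕ, x.Prime ∧ x ≠ r ∧ x ∣ Nat.card G := by
      by_cases h : p = r
      · exact ⟨q, hq, fun e => hpq (h.trans e.symm), hqd⟩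
      · exact ⟨p, hp, h, hpd⟩
    obtain ⟨-, hb1, -⟩ := pair_same hv hr (hne2 r hrd) hx (hne2 x hxd) hxr.symm hrd hxd (hall r hr hrd) (hall x hx hxd)
    have h2 : orderCount G (r ^ 2) = 0 := by
      by_contra hne
      obtain ⟨g, hg⟩ := orderCount_ne_zero_iff.1 hne
      have h := cast_sum_eq_zero (G := G) (hg ▸ orderOf_dvd_natCard g) (dvd_pow_self r two_ne_zero)
      rw [Nat.sum_divisors_prime_pow hr, Finset.sum_range_succ, Finset.sum_range_succ, Finset.sum_range_one,
        pow_zero, pow_one, orderCount_one, hall r hr hrd] at h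
      push_cast at h
      rw [show (a : ZMod r) = -1 from hall r hr hrd ▸ cast_prime hr hrd] at h
      rcases hv (r ^ 2) ((hr.odd_of_ne_two (hne2 r hrd)).pow) (Nat.one_lt_pow two_ne_zero hr.one_lt) with e | e | e
      · exact hne e
      · rw [e, show (a : ZMod r) = -1 from hall r hr hrd ▸ cast_prime hr hrd] at h
        exact one_ne_zero (α := ZMod r) (by linear_combination -h)
      · rw [e, hb1] at h
        exact one_ne_zero (α := ZMod r) (by linear_combination h)
    exact (pow_dvd_pow r ((hr.pow_dvd_iff_le_factorization Nat.card_pos.ne').1 hk)).trans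
      (hall r hr hrd ▸ sylow_dvd_succ hr hrd h2)
  have hsum : 1 + a + a ≤ Nat.card G := by
    have h := powCount_eq_sum (G := G) (n := Nat.card G) Nat.card_pos.ne'
    rw [show powCount G (Nat.card G) = Nat.card G from
      Nat.card_congr (Equiv.subtypeUnivEquiv fun x => pow_card_eq_one')] at h
    conv_rhs => rw [h]
    have hsub : ({1, p, q} : Finset ℕ) ⊆ (Nat.card G).divisors := by
      intro d hd
      simp only [Finset.mem_insert, Finset.mem_singleton] at hd
      rcases hd with rfl | rfl | rfl <;> simp [hpd, hqd, Nat.card_pos.ne']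
    refine le_trans (le_of_eq ?_) (Finset.sum_le_sum_of_subset hsub)
    rw [Finset.sum_insert (by simp [hp.ne_one.symm, hq.ne_one.symm]), Finset.sum_insert (by simp [hpq]),
      Finset.sum_singleton, orderCount_one, hall p hp hpd, hall q hq hqd, add_assoc]
  have := Nat.le_of_dvd (by omega) hM
  have : a ≠ 0 := hall p hp hpd ▸ orderCount_prime_ne_zero hp hpd
  omega

/-- A group of odd order with two values has at most two prime divisors. -/
theorem primeFactors_card_le_two {a b : ℕ} (hv : OddValues G a b) (hodd : Odd (Nat.card G)) :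
    (Nat.card G).primeFactors.card ≤ 2 := by
  by_contra hlt
  push Not at hlt
  obtain ⟨p, q, r, hp, hq, hr, hpq, hpr, hqr⟩ := Finset.two_lt_card_iff.1 hlt
  rw [Nat.mem_primeFactors] at hp hq hr
  have hne2 : ∀ x : ℕ, x ∣ Nat.card G → x ≠ 2 := fun x hx e =>
    (Nat.not_even_iff_odd.2 hodd) (even_iff_two_dvd.2 (e ▸ hx))
  have hval : ∀ x : ℕ, x.Prime → x ∣ Nat.card G → orderCount G x = a ∨ orderCount G x = b := fun x hx hd =>
    (hv x (hx.odd_of_ne_two (hne2 x hd)) hx.one_lt).resolve_left (orderCount_prime_ne_zero hx hd)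
  have main : ∀ (c d : ℕ), OddValues G c d → (∀ x : ℕ, x.Prime → x ∣ Nat.card G → orderCount G x = c ∨ orderCount G x = d) →
      ∀ x y : ℕ, x.Prime → y.Prime → x ≠ y → x ∣ Nat.card G → y ∣ Nat.card G →
        orderCount G x = c → orderCount G y = c → False := by
    intro c d hcd hvals x y hx hy hxy hxd hyd hsx hsy
    by_cases hex : ∃ z : ℕ, z.Prime ∧ z ∣ Nat.card G ∧ orderCount G z ≠ c
    · obtain ⟨z, hz, hzd, hzc⟩ := hex
      exact not_two_and_one hcd hx (hne2 x hxd) hy (hne2 y hyd) hz (hne2 z hzd) hxy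
        (fun e => hzc (e ▸ hsx)) (fun e => hzc (e ▸ hsy)) hxd hyd hzd hsx hsy ((hvals z hz hzd).resolve_left hzc)
    · push Not at hex
      exact not_all_same hcd hodd hx hy hxy hxd hyd hex
  have hA := main a b hv hval
  have hB := main b a hv.symm fun x hx hd => (hval x hx hd).symm
  rcases hval p hp.1 hp.2.1 with e | e <;> rcases hval q hq.1 hq.2.1 with e' | e' <;>
    rcases hval r hr.1 hr.2.1 with e'' | e''
  all_goals first
    | exact hA p q hp.1 hq.1 hpq hp.2.1 hq.2.1 e e'
    | exact hA p r hp.1 hr.1 hpr hp.2.1 hr.2.1 e e''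
    | exact hA q r hq.1 hr.1 hqr hq.2.1 hr.2.1 e' e''
    | exact hB p q hp.1 hq.1 hpq hp.2.1 hq.2.1 e e'
    | exact hB p r hp.1 hr.1 hpr hp.2.1 hr.2.1 e e''
    | exact hB q r hq.1 hr.1 hqr hq.2.1 hr.2.1 e' e''

end Cfsg.Lib.Counting
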